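import Cfsg.Agent.H465.OEGrp
import Cfsg.Agent.H907.TriFlag
import Cfsg.Agent.H462.OEight.Stab
import Cfsg.Agent.ClassicalGeometry.WittQuad

/-!
# S3938, `Ω⁺₈(3)`: root elements, the pair lemma (helper62)
-/

set_option autoImplicit false
set_option linter.unusedSectionVars false
set_option linter.style.haveILetI false

namespace Cfsg.Agent.H62.Oe

open Module QuadraticMap Cfsg.Agent.LieClassical.OrthCore Cfsg.Agent.LieClassical.OrthTrans
  Cfsg.Agent.ClassicalGeometry.OrthAut1 Cfsg.Agent.ClassicalGeometry.OrthAut2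
  Cfsg.Agent.LieClassical.QuadForms Cfsg.Agent.ClassicalGeometry.TrialityOct
  Cfsg.Agent.ClassicalGeometry.Triality Cfsg.Agent.ClassicalGeometry.OrthSemi Cfsg.Agent.H198.TriAut
  Cfsg.Agent.H465.OEight

/-- good generation -/
def Gd {G : Type*} [Group G] (α : MulAut G) : Prop :=
  ∃ x : G, ∀ K : Subgroup G, x ∈ K → (∀ k ∈ K, α k ∈ K) → K = ⊤

theorem Gd.of_conj {G : Type*} [Group G] {α : MulAut G} (β : MulAut G) (h : Gd (β⁻¹ * α * β)) : Gd α := by
  obtain ⟨x, hx⟩ := h
  refine ⟨β x, fun K h1 h2 => ?_⟩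
  have h3 := hx (K.comap β.toMonoidHom) h1 (fun k hk => by
    show β ((β⁻¹ * α * β) k) ∈ K
    have e : β ((β⁻¹ * α * β) k) = α (β k) := by
      rw [MulAut.mul_apply, MulAut.mul_apply]
      exact β.apply_symm_apply _
    rw [e]
    exact h2 _ hk)
  rw [eq_top_iff]
  intro y _
  have h4 : β.symm y ∈ K.comap β.toMonoidHom := by rw [h3]; trivial
  have h5 : β (β.symm y) ∈ K := h4
  rwa [MulEquiv.apply_symm_apply] at h5

theorem pow_mem_of {G : Type*} [Group G] {α : MulAut G} {K : Subgroup G} (h : ∀ k ∈ K, α k ∈ K) (n : ℕ) :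
    ∀ k ∈ K, (α ^ n) k ∈ K := by
  induction n with
  | zero => intro k hk; exact hk
  | succ n ih =>
    intro k hk
    rw [pow_succ, MulAut.mul_apply]
    exact ih _ (h k hk)

theorem Gd.of_pow {G : Type*} [Group G] {α : MulAut G} {n : ℕ} (h : Gd (α ^ n)) : Gd α := by
  obtain ⟨x, hx⟩ := h
  exact ⟨x, fun K h1 h2 => hx K h1 (pow_mem_of h2 n)⟩

theorem Gd.of_inv {G : Type*} [Group G] [Finite G] {α : MulAut G} (h : Gd α⁻¹) : Gd α := by
  haveI : Finite (MulAut G) := Finite.of_injective (fun a : MulAut G => (a : G → G)) DFunLike.coe_injective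
  have h1 : α⁻¹ = α ^ (orderOf α - 1) := by
    rw [inv_eq_iff_mul_eq_one, ← pow_succ', Nat.sub_add_cancel (orderOf_pos α), pow_orderOf_eq_one]
  rw [h1] at h
  exact h.of_pow

/-- the field -/
abbrev R := ZMod 3
/-- the space -/
abbrev V := V8 R
/-- the form -/
abbrev Q : QuadraticForm R V := plusForm 4 R
/-- the group -/
abbrev PP := P8 R

theorem hG : Good Q := AutOrth.Main.good_plus (by norm_num)

theorem z3 (a : R) : a = 0 ∨ a = 1 ∨ a = -1 := by revert a; decide

theorem z3' {a : R} (h : a ≠ 0) : a = 1 ∨ a = -1 := (z3 a).resolve_left h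

open Classical in
/-- root elements -/
noncomputable def rt (u w : V) : PP :=
  if h : Q u = 0 ∧ polar Q u w = 0 then ((sg u w h.1 h.2 : ↥(E Q)) : PP) else 1

theorem rt_eq {u w : V} (hu : Q u = 0) (hw : polar Q u w = 0) : rt u w = ((sg u w hu hw : ↥(E Q)) : PP) :=
  dif_pos ⟨hu, hw⟩

theorem sim_polar {b : V ≃ₗ[R] V} {c : R} (hc : ∀ v, Q (b v) = c * Q v) (u w : V) :
    polar Q (b u) (b w) = c * polar Q u w := by
  unfold polar
  rw [← map_add, hc, hc, hc]
  ring

theorem psi_rt (b : SG R) {c : R} (hc0 : c ≠ 0) (hc : ∀ v, Q (b.1 v) = c * Q v) {u w : V} (hu : Q u = 0)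
    (hw : polar Q u w = 0) : psi b (rt u w) = rt (b.1 u) (c⁻¹ • b.1 w) := by
  have hu' : Q (b.1 u) = 0 := by rw [hc, hu, mul_zero]
  have hw' : polar Q (b.1 u) (c⁻¹ • b.1 w) = 0 := by rw [polar_smul_right, sim_polar hc, hw, mul_zero, smul_zero]
  rw [rt_eq hu hw, rt_eq hu' hw', psi_mk]
  congr 1
  apply Subtype.ext
  ext1 v
  obtain ⟨v, rfl⟩ := b.1.surjective v
  have h1 : (b.1 * ((sg u w hu hw : ↥(E Q)) : V ≃ₗ[R] V) * b.1⁻¹) (b.1 v) =
      b.1 (((sg u w hu hw : ↥(E Q)) : V ≃ₗ[R] V) v) := by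
    show b.1 (((sg u w hu hw : ↥(E Q)) : V ≃ₗ[R] V) (b.1.symm (b.1 v))) = _
    rw [LinearEquiv.symm_apply_apply]
  show (b.1 * ((sg u w hu hw : ↥(E Q)) : V ≃ₗ[R] V) * b.1⁻¹) (b.1 v) = _
  rw [h1, sg_apply, sg_apply, polar_smul_left, sim_polar hc, sim_polar hc, QuadraticMap.map_smul, hc]
  simp only [map_add, map_sub, map_smul, smul_eq_mul, smul_smul]
  have e1 : c * polar Q u v * c⁻¹ = polar Q u v := by field_simp
  have e2 : c⁻¹ * (c * polar Q w v) = polar Q w v := by field_simp
  have e3 : c⁻¹ * c⁻¹ * (c * Q w) * (c * polar Q u v) = Q w * polar Q u v := by field_simp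
  rw [e1, e2, e3]

theorem psi_rt_one (b : SG R) (hc : ∀ v, Q (b.1 v) = Q v) {u w : V} (hu : Q u = 0)
    (hw : polar Q u w = 0) : psi b (rt u w) = rt (b.1 u) (b.1 w) := by
  have := psi_rt b one_ne_zero (fun v => by rw [hc, one_mul]) hu hw
  rwa [inv_one, one_smul] at this

theorem rt_inv {u w : V} (hu : Q u = 0) (hw : polar Q u w = 0) : rt u (-w) = (rt u w)⁻¹ := by
  have hw' : polar Q u (-w) = 0 := by rw [polar_neg_right, hw, neg_zero]
  have h0 : polar Q u (-w + w) = 0 := by rw [neg_add_cancel, polar_zero_right]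
  rw [eq_inv_iff_mul_eq_one, rt_eq hu hw, rt_eq hu hw', ← QuotientGroup.mk_mul, sg_mul hu hw' hw h0]
  rw [QuotientGroup.eq_one_iff]
  have h1 : (sg u (-w + w) hu h0 : ↥(E Q)) = 1 := by
    apply Subtype.ext
    ext1 v
    rw [sg_apply, neg_add_cancel]
    simp
  rw [h1]
  exact one_mem _

theorem rt_add {u w : V} (hu : Q u = 0) (hw : polar Q u w = 0) (c : R) : rt u (w + c • u) = rt u w := by
  have hcu : polar Q u (c • u) = 0 := by rw [polar_smul_right, polar_self_of_sing hu, smul_zero]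
  have h1 : polar Q u (w + c • u) = 0 := by rw [polar_add_right, hw, hcu, add_zero]
  rw [rt_eq hu hw, rt_eq hu h1]
  congr 1
  apply Subtype.ext
  ext1 v
  rw [sg_apply, sg_apply, Q_add, QuadraticMap.map_smul, hu, polar_add_left, polar_smul_left, polar_smul_right,
    polar_comm Q w u, hw]
  simp only [smul_eq_mul, mul_zero, add_zero]
  module

/-- root elements alternate -/
theorem rt_alt {u w : V} (hu : Q u = 0) (hw : Q w = 0) (huw : polar Q u w = 0) (a b c d : R) :
    rt (a • u + b • w) (c • u + d • w) = rt u ((a * d - b * c) • w) := by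
  have hwu : polar Q w u = 0 := by rw [polar_comm]; exact huw
  have huu := polar_self_of_sing hu
  have hww := polar_self_of_sing hw
  have h1 : Q (a • u + b • w) = 0 := by
    rw [Q_add, QuadraticMap.map_smul, QuadraticMap.map_smul, hu, hw, polar_smul_left, polar_smul_right, huw]
    simp
  have h2 : polar Q (a • u + b • w) (c • u + d • w) = 0 := by
    rw [polar_add_left, polar_add_right, polar_add_right, polar_smul_left, polar_smul_left, polar_smul_left,
      polar_smul_left, polar_smul_right, polar_smul_right, polar_smul_right, polar_smul_right, huw, hwu, huu, hww]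
    simp
  have h3 : polar Q u ((a * d - b * c) • w) = 0 := by rw [polar_smul_right, huw, smul_zero]
  rw [rt_eq h1 h2, rt_eq hu h3]
  congr 1
  apply Subtype.ext
  ext1 v
  have h4 : Q (c • u + d • w) = 0 := by
    rw [Q_add, QuadraticMap.map_smul, QuadraticMap.map_smul, hu, hw, polar_smul_left, polar_smul_right, huw]
    simp
  rw [sg_apply, sg_apply, h4, QuadraticMap.map_smul, hw]
  simp only [polar_add_left, polar_smul_left, smul_eq_mul, mul_zero, zero_mul, zero_smul, sub_zero]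
  module

/-- the standard vectors -/
def e (i : Fin 4) : V := Pi.single (.inl i) 1
/-- the standard vectors -/
def f (i : Fin 4) : V := Pi.single (.inr i) 1

theorem fst_add (a : R) : a = 0 ∨ a = 1 ∨ a = 2 := by revert a; decide

end Cfsg.Agent.H62.Oe
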