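import Cfsg.Agent.H62.Oe.Pair

/-!
# S3938, `Ω⁺₈(3)`: automorphisms induced by similitudes (helper62)
-/

set_option autoImplicit false
set_option linter.unusedSectionVars false
set_option linter.style.haveILetI false

namespace Cfsg.Agent.H62.Oe

open Module QuadraticMap Cfsg.Agent.LieClassical.OrthCore Cfsg.Agent.LieClassical.OrthTrans
  Cfsg.Agent.LieClassical.OrthSimple
  Cfsg.Agent.ClassicalGeometry.OrthAut1 Cfsg.Agent.ClassicalGeometry.OrthAut2
  Cfsg.Agent.LieClassical.QuadForms Cfsg.Agent.ClassicalGeometry.TrialityOct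
  Cfsg.Agent.ClassicalGeometry.Triality Cfsg.Agent.ClassicalGeometry.OrthSemi Cfsg.Agent.H198.TriAut
  Cfsg.Agent.H465.OEight

theorem ext_ef {g h : V →ₗ[R] V} (he : ∀ i, g (e i) = h (e i)) (hf : ∀ i, g (f i) = h (f i)) : g = h := by
  apply LinearMap.pi_ext'
  rintro (i | i)
  · apply LinearMap.ext_ring
    exact he i
  · apply LinearMap.ext_ring
    exact hf i

theorem polar_e (v : V) (i : Fin 4) : polar Q (e i) v = v (.inr i) := by
  rw [polar_comm, e, polar_plusForm_single_inl, one_mul]

theorem polar_f (v : V) (i : Fin 4) : polar Q (f i) v = v (.inl i) := by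
  rw [polar_comm, f, polar_plusForm_single_inr, one_mul]

theorem e_ne (i : Fin 4) : e i ≠ 0 := by
  intro h
  have := congrFun h (.inl i)
  simp [e] at this

theorem f_ne (i : Fin 4) : f i ≠ 0 := by
  intro h
  have := congrFun h (.inr i)
  simp [f] at this

/-- scalars act trivially -/
theorem psi_eq_one {b : SG R} {a : R} (h : ∀ v, b.1 v = a • v) : psi b = 1 := by
  ext k
  obtain ⟨k, rfl⟩ := QuotientGroup.mk_surjective k
  rw [psi_mk]
  show ((⟨b.1 * k.1 * b.1⁻¹, _⟩ : ↥(E Q)) : PP) = (k : PP)
  congr 1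
  apply Subtype.ext
  ext1 v
  obtain ⟨v, rfl⟩ := b.1.surjective v
  show b.1 (k.1 (b.1.symm (b.1 v))) = k.1 (b.1 v)
  rw [LinearEquiv.symm_apply_apply, h, h, map_smul]

theorem sg_mul_apply (a b : SG R) (v : V) : (a * b).1 v = a.1 (b.1 v) := rfl

theorem sg_inv_apply (a : SG R) (v : V) : a⁻¹.1 (a.1 v) = v := a.1.symm_apply_apply v

theorem sg_apply_inv (a : SG R) (v : V) : a.1 (a⁻¹.1 v) = v := a.1.apply_symm_apply v

theorem Gd.of_psi_conj {b : SG R} (g : SG R) (h : Gd (psi (g⁻¹ * b * g))) : Gd (psi b) := by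
  rw [map_mul, map_mul, map_inv] at h
  exact h.of_conj _

variable {ρ : SG R} (C : Cert ρ)

include C

/-- no singular vector is moved to a non-orthogonal one -/
theorem one_beta {b : SG R} (hb : psi b ≠ 1) (h : ∀ p, Q p = 0 → polar Q p (b.1 p) = 0) : Gd (psi b) := by
  obtain ⟨c, hc0, hc⟩ := b.2
  have hc' : ∀ v, Q (b.1 v) = c * Q v := hc
  by_cases hx : ∃ x y : V, Q x = 0 ∧ Q y = 0 ∧ polar Q x y = 0 ∧ polar Q x (b.1 y) ≠ 0
  · obtain ⟨x, y, hx, hy, hxy, hne⟩ := hx
    have hQbx : Q (b.1 x) = 0 := by rw [hc', hx, mul_zero]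
    have hQby : Q (b.1 y) = 0 := by rw [hc', hy, mul_zero]
    have hyx : polar Q y x = 0 := by rw [polar_comm]; exact hxy
    have h1 : polar Q y (b.1 x) ≠ 0 := by
      have h2 := h (x + y) (by rw [Q_add, hx, hy, hxy]; simp)
      rw [map_add, polar_add_left, polar_add_right, polar_add_right, h x hx, h y hy] at h2
      intro h3
      rw [h3] at h2
      exact hne (by linear_combination h2)
    have hbyx : polar Q (b.1 y) (b.1 x) = 0 := by rw [sim_polar hc', hyx, mul_zero]
    have hrt : psi b (rt x y) = rt (b.1 y) ((-c⁻¹) • b.1 x) := by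
      rw [psi_rt b hc0 hc' hx hxy]
      have h2 := rt_alt hQby hQbx hbyx 0 1 c⁻¹ 0
      rw [zero_smul, zero_add, one_smul, zero_smul, add_zero, zero_mul, zero_sub, one_mul] at h2
      exact h2
    rcases pair C (α := psi b) (u := x) (w := y) (u' := b.1 y) (w' := (-c⁻¹) • b.1 x) hx hy hxy hQby
      (by rw [QuadraticMap.map_smul, hQbx, smul_zero]) (by rw [polar_smul_right, hbyx, smul_zero]) hne
      (by
        rintro k rfl
        apply hne
        rw [map_smul, polar_smul_right, h x hx, smul_zero])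
      (by
        intro k hk
        apply h1
        have h2 : b.1 x = (-c * k) • b.1 y := by
          have h3 := congrArg (fun v => (-c) • v) hk
          simp only [smul_smul] at h3
          have h4 : -c * -c⁻¹ = 1 := by field_simp
          rw [h4, one_smul] at h3
          exact h3
        rw [h2, polar_smul_right, h y hy, smul_zero]) hrt with h2 | ⟨a1, a2, a3, h2⟩
    · exact h2
    · exfalso
      have h3 := congrArg (polar Q y) h2
      rw [polar_smul_right, polar_add_right, polar_add_right, polar_smul_right, polar_smul_right, polar_smul_right,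
        polar_self_of_sing hy, hyx, h y hy] at h3
      simp only [smul_zero, add_zero] at h3
      rcases smul_eq_zero.1 h3 with h4 | h4
      · exact inv_ne_zero hc0 (neg_eq_zero.1 h4)
      · exact h1 h4
  · exfalso
    push Not at hx
    apply hb
    have key : ∀ y, Q y = 0 → ∃ k : R, b.1 y = k • y := by
      intro y hy
      by_cases hy0 : y = 0
      · exact ⟨0, by rw [hy0, map_zero, smul_zero]⟩
      obtain ⟨g, hg, hgy⟩ := hG.trans_sing (Q_e 0) hy (e_ne 0) hy0
      have hgO : g ∈ O Q := E_le_O hg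
      obtain ⟨z, hz⟩ := g.surjective (b.1 y)
      have h1 : ∀ x0, Q x0 = 0 → polar Q x0 (e 0) = 0 → polar Q x0 z = 0 := by
        intro x0 h2 h3
        rw [← polar_map hgO, hz]
        refine hx _ _ ((mem_O.1 hgO _).trans h2) hy ?_
        rw [← hgy, polar_map hgO, h3]
      refine ⟨z (.inl 0), ?_⟩
      rw [← hz, ← hgy, ← map_smul]
      congr 1
      funext j
      rcases j with i | i
      · by_cases hi : i = 0
        · rw [hi]; simp [e]
        · have := h1 (f i) (Q_f i) (by rw [polar_fe, if_neg hi])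
          rw [polar_f] at this
          rw [this]
          have hi' : (0 : Fin 4) ≠ i := fun h => hi h.symm
          simp [e, hi]
      · have := h1 (e i) (Q_e i) (polar_ee _ _)
        rw [polar_e] at this
        rw [this]
        simp [e]
    obtain ⟨k, hk⟩ := good_eq_smul_of_fix hG key
    exact psi_eq_one hk

section alpha

variable {b : SG R} {c κ : R} (hc0 : c ≠ 0) (hc : ∀ v, Q (b.1 v) = c * Q v) (hκ : κ ≠ 0) (hb0 : b.1 (e 0) = κ • f 0)
  (hn : ¬ Gd (psi b))

include hc0 hc hκ hb0 hn

theorem a_one {r : V} (hr : Q r = 0) (hr0 : r ≠ 0) (h1 : polar Q (e 0) r = 0) (h2 : polar Q (f 0) r = 0) :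
    ∃ x y : R, b.1 r = x • r + y • f 0 := by
  have hcc : c * c⁻¹ = 1 := mul_inv_cancel₀ hc0
  have h3 : polar Q (f 0) (b.1 r) = 0 := by
    have h4 : polar Q (b.1 (e 0)) (b.1 r) = 0 := by rw [sim_polar hc, h1, mul_zero]
    rw [hb0, polar_smul_left, smul_eq_mul] at h4
    exact (mul_eq_zero.1 h4).resolve_left hκ
  have hrt : psi b (rt (e 0) r) = rt (κ • f 0) (c⁻¹ • b.1 r) := by
    rw [psi_rt b hc0 hc (Q_e 0) h1, hb0]
  have hr1 : ∀ k : R, r ≠ k • e 0 := by
    rintro k rfl
    rw [polar_smul_right, polar_fe, if_pos rfl] at h2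
    rw [smul_eq_mul, mul_one] at h2
    apply hr0
    rw [h2, zero_smul]
  rcases pair C (α := psi b) (u := e 0) (w := r) (u' := κ • f 0) (w' := c⁻¹ • b.1 r) (Q_e 0) hr h1
    (by rw [QuadraticMap.map_smul, Q_f, smul_zero]) (by rw [QuadraticMap.map_smul, hc, hr]; simp)
    (by rw [polar_smul_left, polar_smul_right, h3, smul_zero, smul_zero])
    (by rw [polar_smul_right, polar_ef, if_pos rfl, smul_eq_mul, mul_one]; exact hκ) hr1
    (by
      intro k hk
      apply hr1 (c * k)
      apply b.1.injective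
      rw [map_smul, hb0]
      have h4 := congrArg (fun v => c • v) hk
      simp only [smul_smul, hcc, one_smul] at h4
      rw [h4, smul_smul, mul_assoc]) hrt with h4 | ⟨a1, a2, a3, h4⟩
  · exact absurd h4 hn
  · have h5 := congrArg (polar Q (f 0)) h4
    rw [polar_smul_right, h3, polar_add_right, polar_add_right, polar_smul_right, polar_smul_right, polar_smul_right,
      polar_smul_right, h2, polar_fe, if_pos rfl, polar_ff] at h5
    simp only [smul_eq_mul, mul_zero, mul_one, zero_add, add_zero] at h5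
    rw [← h5, zero_smul, add_zero] at h4
    refine ⟨c * a1, c * (a3 * κ), ?_⟩
    have h6 := congrArg (fun v => c • v) h4
    simp only [smul_smul, smul_add, hcc, one_smul] at h6
    exact h6

theorem a_two {s t ds dt : V} (hs : Q s = 0) (ht : Q t = 0) (hst : polar Q s t = 0)
    (h1 : polar Q (e 0) s = 0) (h2 : polar Q (f 0) s = 0) (h3 : polar Q (e 0) t = 0) (h4 : polar Q (f 0) t = 0)
    (ds1 : polar Q ds s = 1) (ds2 : polar Q ds t = 0) (ds3 : polar Q ds (f 0) = 0)
    (dt1 : polar Q dt t = 1) (dt2 : polar Q dt s = 0) (dt3 : polar Q dt (f 0) = 0)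
    {β β' φ φ' : R} (hbs : b.1 s = β • s + φ • f 0) (hbt : b.1 t = β' • t + φ' • f 0) : β = β' := by
  obtain ⟨x, y, hxy⟩ := a_one C hc0 hc hκ hb0 hn (r := s + t) (by rw [Q_add, hs, ht, hst]; simp)
    (by
      intro h
      have h5 := congrArg (polar Q ds) h
      rw [polar_add_right, ds1, ds2, polar_zero_right, add_zero] at h5
      exact one_ne_zero h5)
    (by rw [polar_add_right, h1, h3, add_zero]) (by rw [polar_add_right, h2, h4, add_zero])
  rw [map_add, hbs, hbt] at hxy
  have h5 := congrArg (polar Q ds) hxy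
  have h6 := congrArg (polar Q dt) hxy
  simp only [polar_add_right, polar_smul_right, ds1, ds2, ds3, dt1, dt2, dt3, smul_eq_mul, mul_zero, mul_one, add_zero,
    zero_add] at h5 h6
  rw [h5, h6]

theorem a_three {s t d : V} (hs : Q s = 0) (ht : Q t = 0) (hst : polar Q s t = 0)
    (h1 : polar Q (e 0) s = 0) (h2 : polar Q (f 0) s = 0) (h3 : polar Q (e 0) t = 0) (h4 : polar Q (f 0) t = 0)
    (dt1 : polar Q d t = 1) (dt2 : polar Q d s = 0) (dt3 : polar Q d (e 0) = 0) (dt4 : polar Q d (f 0) = 0)
    {β φ φ' : R} (hβ : β ≠ 0) (hbs : b.1 s = β • s + φ • f 0) (hbt : b.1 t = β • t + φ' • f 0) : φ = 0 := by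
  by_contra hφ
  apply hn
  have hcc : c⁻¹ * c = 1 := inv_mul_cancel₀ hc0
  set r := t - (φ' * φ⁻¹) • s with hr
  have hts : polar Q t s = 0 := by rw [polar_comm]; exact hst
  have hse : polar Q s (e 0) = 0 := by rw [polar_comm]; exact h1
  have hsf : polar Q s (f 0) = 0 := by rw [polar_comm]; exact h2
  have hte : polar Q t (e 0) = 0 := by rw [polar_comm]; exact h3
  have htf : polar Q t (f 0) = 0 := by rw [polar_comm]; exact h4
  have hr' : r = t + (-(φ' * φ⁻¹)) • s := by rw [hr]; module
  have hQr : Q r = 0 := by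
    rw [hr', Q_add, QuadraticMap.map_smul, ht, hs, polar_smul_right, hts]; simp
  have hrs : polar Q r s = 0 := by
    rw [hr', polar_add_left, polar_smul_left, hts, polar_self_of_sing hs]; simp
  have hre : polar Q r (e 0) = 0 := by rw [hr', polar_add_left, polar_smul_left, hte, hse]; simp
  have hrf : polar Q r (f 0) = 0 := by rw [hr', polar_add_left, polar_smul_left, htf, hsf]; simp
  have her : polar Q (e 0) r = 0 := by rw [polar_comm]; exact hre
  have hfr : polar Q (f 0) r = 0 := by rw [polar_comm]; exact hrf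
  have hrr := polar_self_of_sing hQr
  have hdr : polar Q d r = 1 := by rw [hr', polar_add_right, polar_smul_right, dt1, dt2]; simp
  have hbr : b.1 r = β • r := by
    rw [hr, map_sub, map_smul, hbs, hbt]
    have e1 : φ' * φ⁻¹ * φ = φ' := by field_simp
    have e2 : β • t + φ' • f 0 - (φ' * φ⁻¹) • (β • s + φ • f 0) =
      β • (t - (φ' * φ⁻¹) • s) + (φ' - φ' * φ⁻¹ * φ) • f 0 := by module
    rw [e2, e1, sub_self, zero_smul, add_zero]
  have hsu : polar Q (e 0 + r) s = 0 := by rw [polar_add_left, h1, hrs, add_zero]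
  have hQu : Q (e 0 + r) = 0 := by rw [Q_add, Q_e, hQr, her]; simp
  have hbu : b.1 (e 0 + r) = κ • f 0 + β • r := by rw [map_add, hb0, hbr]
  have hrt : psi b (rt (e 0 + r) s) = rt (κ • f 0 + β • r) (c⁻¹ • (β • s + φ • f 0)) := by
    rw [psi_rt b hc0 hc hQu hsu, hbu, hbs]
  rcases pair C (α := psi b) (u := e 0 + r) (w := s) (u' := κ • f 0 + β • r) (w' := c⁻¹ • (β • s + φ • f 0)) hQu hs hsu
    (by rw [← hbu, hc, hQu, mul_zero]) (by rw [← hbs, QuadraticMap.map_smul, hc, hs]; simp)
    (by rw [← hbs, ← hbu, polar_smul_right, sim_polar hc, hsu]; simp)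
    (by
      rw [polar_add_left, polar_add_right, polar_add_right, polar_smul_right, polar_smul_right, polar_smul_right,
        polar_smul_right, polar_ef, if_pos rfl, her, hrf, hrr]
      simp only [smul_eq_mul, mul_one, mul_zero, add_zero]
      exact hκ)
    (by
      intro k hk
      have h5 := congrArg (polar Q d) hk
      rw [dt2, polar_smul_right, polar_add_right, dt3, hdr, zero_add, smul_eq_mul, mul_one] at h5
      rw [← h5, zero_smul] at hk
      rw [hk, map_zero, smul_zero, zero_add] at hbs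
      have h6 := smul_eq_zero.1 hbs.symm
      rcases h6 with h6 | h6
      · exact hφ h6
      · exact f_ne 0 h6)
    (by
      intro k hk
      have h5 := congrArg (polar Q d) hk
      simp only [polar_smul_right, polar_add_right, dt2, dt4, hdr, smul_eq_mul, mul_zero, add_zero, zero_add,
        mul_one] at h5
      have h6 : k = 0 := (mul_eq_zero.1 h5.symm).resolve_right hβ
      rw [h6, zero_smul, ← hbs] at hk
      have h7 := (smul_eq_zero.1 hk).resolve_left (inv_ne_zero hc0)
      have h8 : s = 0 := b.1.map_eq_zero_iff.1 h7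
      rw [h8, map_zero, smul_zero, zero_add] at hbs
      have h6 := smul_eq_zero.1 hbs.symm
      rcases h6 with h6 | h6
      · exact hφ h6
      · exact f_ne 0 h6) hrt with h5 | ⟨a1, a2, a3, h5⟩
  · exact h5
  · exfalso
    have h6 := congrArg (polar Q (f 0)) h5
    have h7 := congrArg (polar Q d) h5
    have h8 := congrArg (polar Q (e 0)) h5
    simp only [polar_smul_right, polar_add_right, dt2, dt3, dt4, hdr, h1, h2, her, hfr, polar_fe, polar_ef, polar_ff,
      polar_ee, if_true, smul_eq_mul, mul_zero, add_zero, zero_add, mul_one] at h6 h7 h8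
    rw [← h6] at h7
    have h9 : a3 = 0 := (mul_eq_zero.1 (by rw [zero_add] at h7; exact h7.symm)).resolve_right hβ
    rw [h9, zero_mul] at h8
    exact hφ ((mul_eq_zero.1 h8).resolve_left (inv_ne_zero hc0))

end alpha

end Cfsg.Agent.H62.Oe
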