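import Cfsg.Agent.H62.Oe.CaseOneB

/-!
# S3938, `Ω⁺₈(3)`: automorphisms mapping a point stabiliser to the stabiliser of an opposite 4-space (helper62)
-/

set_option autoImplicit false
set_option linter.unusedSectionVars false
set_option linter.style.haveILetI false

namespace Cfsg.Agent.H62.Oe

open Module QuadraticMap Cfsg.Agent.LieClassical.OrthCore Cfsg.Agent.LieClassical.OrthTrans
  Cfsg.Agent.LieClassical.OrthSimple
  Cfsg.Agent.ClassicalGeometry.OrthAut1 Cfsg.Agent.ClassicalGeometry.OrthAut2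
  Cfsg.Agent.ClassicalGeometry.OrthAut2b Cfsg.Agent.H907.TriFlag
  Cfsg.Agent.LieClassical.QuadForms Cfsg.Agent.ClassicalGeometry.TrialityOct
  Cfsg.Agent.ClassicalGeometry.Triality Cfsg.Agent.ClassicalGeometry.OrthSemi Cfsg.Agent.H198.TriAut
  Cfsg.Agent.H465.OEight

theorem finrank_V : finrank R V = 8 := by simp

/-- equal root elements -/
theorem rt_inj {u w u' w' : V} (hu : Q u = 0) (hw : polar Q u w = 0) (hu' : Q u' = 0) (hw' : polar Q u' w' = 0)
    (h : rt u w = rt u' w') (v : V) :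
    polar Q u v • w - polar Q w v • u - (Q w * polar Q u v) • u =
      polar Q u' v • w' - polar Q w' v • u' - (Q w' * polar Q u' v) • u' := by
  rw [rt_eq hu hw, rt_eq hu' hw'] at h
  obtain ⟨c, hc⟩ := center_scalar hG (QuotientGroup.eq.1 h)
  have h2 : ∀ v, ((sg u' w' hu' hw' : ↥(E Q)) : V ≃ₗ[R] V) v
      = c • ((sg u w hu hw : ↥(E Q)) : V ≃ₗ[R] V) v := by
    intro v
    have h3 := hc v
    have h4 : ((sg u w hu hw : ↥(E Q)) : V ≃ₗ[R] V) ((((sg u w hu hw)⁻¹ * sg u' w' hu' hw' : ↥(E Q)) :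
        V ≃ₗ[R] V) v) = ((sg u' w' hu' hw' : ↥(E Q)) : V ≃ₗ[R] V) v := by
      show ((sg u w hu hw : ↥(E Q)) : V ≃ₗ[R] V) (((sg u w hu hw : ↥(E Q)) : V ≃ₗ[R] V).symm
        (((sg u' w' hu' hw' : ↥(E Q)) : V ≃ₗ[R] V) v)) = _
      rw [LinearEquiv.apply_symm_apply]
    rw [← h4, h3, map_smul]
  have hc1 : c = 1 := by
    obtain ⟨a, ha0, ha⟩ := exists_perp_ne (Q := Q) ![u, w, u', w'] (by rw [finrank_V]; norm_num)
    have h3 : polar Q u a = 0 := ha 0
    have h4 : polar Q w a = 0 := ha 1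
    have h5 : polar Q u' a = 0 := ha 2
    have h6 : polar Q w' a = 0 := ha 3
    have h7 := h2 a
    rw [sg_apply, sg_apply, h3, h4, h5, h6] at h7
    simp only [zero_smul, mul_zero, add_zero, sub_zero] at h7
    have h8 : (c - 1) • a = 0 := by rw [sub_smul, one_smul, ← h7, sub_self]
    exact sub_eq_zero.1 ((smul_eq_zero.1 h8).resolve_right ha0)
  have h3 := h2 v
  rw [hc1, one_smul, sg_apply, sg_apply] at h3
  have h4 : polar Q u v • w - polar Q w v • u - (Q w * polar Q u v) • u =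
      (v + polar Q u v • w - polar Q w v • u - (Q w * polar Q u v) • u) - v := by module
  rw [h4, ← h3]
  module

theorem rt_zero {u : V} (hu : Q u = 0) : rt u 0 = 1 := by
  have h0 : polar Q u 0 = 0 := polar_zero_right _ _
  have h2 : rt u 0 * rt u 0 = rt u 0 := by
    rw [rt_eq hu h0, ← QuotientGroup.mk_mul]
    congr 1
    rw [sg_mul hu h0 h0 (by rw [add_zero]; exact h0)]
    exact sg_congr hu _ _ (add_zero 0)
  exact mul_eq_left.1 h2

theorem rt_eq_one {u w : V} (hu : Q u = 0) (hu0 : u ≠ 0) (hw : polar Q u w = 0) (h : rt u w = 1) :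
    ∃ c : R, w = c • u := by
  rw [← rt_zero hu, rt_eq hu hw, rt_eq hu (polar_zero_right _ u), sg_eq_sg_iff hG hu hu0] at h
  obtain ⟨c, hc⟩ := h
  exact ⟨-c, by rw [neg_smul, ← hc]; abel⟩

/-- a root element on two points is a long root element -/
theorem Q_of_two {u w u' w' : V} (hu : Q u = 0) (hu0 : u ≠ 0) (hw : polar Q u w = 0) (hu' : Q u' = 0)
    (hw' : polar Q u' w' = 0) (hne : ∀ k : R, u' ≠ k • u) (h : rt u w = rt u' w') : Q w = 0 := by
  by_cases hk : ∃ k : R, w' = k • u'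
  · obtain ⟨k, rfl⟩ := hk
    have h1 : rt u' (k • u') = 1 := by
      have h2 := rt_add hu' (polar_zero_right _ u') k
      rw [zero_add, rt_zero hu'] at h2
      exact h2
    rw [h1] at h
    obtain ⟨c, rfl⟩ := rt_eq_one hu hu0 hw h
    rw [QuadraticMap.map_smul, hu, smul_zero]
  push Not at hk
  obtain ⟨v, hv1, hv2⟩ := exists_sep hG.nondeg hk
  have h1 := rt_inj hu hw hu' hw' h v
  rw [hv1, hv2] at h1
  simp only [zero_smul, one_smul, mul_zero, sub_zero, zero_sub] at h1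
  have h2 : u' = (-polar Q u v) • w + (polar Q w v + Q w * polar Q u v) • u := by
    have h3 : u' = -(-u') := (neg_neg _).symm
    rw [h3, ← h1]
    module
  have h3 := hu'
  have hwu : polar Q w u = 0 := by rw [polar_comm]; exact hw
  rw [h2, Q_add, QuadraticMap.map_smul, QuadraticMap.map_smul, hu, polar_smul_left, polar_smul_right, hwu] at h3
  simp only [smul_eq_mul, mul_zero, add_zero] at h3
  rcases mul_eq_zero.1 h3 with h4 | h4
  · exfalso
    have h5 : -polar Q u v = 0 := mul_self_eq_zero.1 h4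
    rw [h5, zero_smul, zero_add] at h2
    exact hne _ h2
  · exact h4

/-- the space `⟨e₀, …, e₃⟩` -/
def L0 : Submodule R V where
  carrier := {v | ∀ i, v (.inr i) = 0}
  add_mem' := fun {v w} hv hw i => by
    show v (.inr i) + w (.inr i) = 0
    rw [hv i, hw i, add_zero]
  zero_mem' := fun _ => rfl
  smul_mem' := fun a {v} hv i => by
    show a * v (.inr i) = 0
    rw [hv i, mul_zero]

theorem mem_L0 {v : V} : v ∈ L0 ↔ ∀ i, v (.inr i) = 0 := Iff.rfl

theorem TS_L0 : TS Q L0 := by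
  intro w hw
  rw [norm8, hw 0, hw 1, hw 2, hw 3]
  simp

theorem e_mem (i : Fin 4) : e i ∈ L0 := fun j => by simp [e]

section

variable {b : MulAut PP} (hb : (stab hG L0).map b.toMonoidHom = stab hG (Submodule.span R {f 0}))

include hb

theorem map_UP {t : PP} (ht : t ∈ UP Q L0) : b t ∈ UP Q (Submodule.span R {f 0}) := by
  have h1 := le_UP_of_normal hG (by rw [finrank_V]; norm_num) 3 (Q_f 0) (f_ne 0) ((UP Q L0).map b.toMonoidHom)
    (by
      rw [← hb]
      exact Subgroup.map_mono (UP_le_stab hG _))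
    (by
      rintro g hg _ ⟨t, ht, rfl⟩
      rw [← hb] at hg
      obtain ⟨s, hs, rfl⟩ := hg
      refine ⟨s * t * s⁻¹, conj_mem_UP_of_stab hs ht, ?_⟩
      rw [map_mul, map_mul, map_inv])
    ((isPGroup_UP (Q := Q) 3 L0).map _)
  exact h1 ⟨t, ht, rfl⟩

theorem map_UP' (p : PP) {t : PP} (ht : t ∈ UP Q (pact hG p L0)) :
    b t ∈ UP Q (pact hG (b p) (Submodule.span R {f 0})) := by
  have h1 := conj_mem_UP hG (p := p⁻¹) ht
  rw [map_inv, ← Equiv.Perm.mul_apply, inv_mul_cancel, Equiv.Perm.one_apply, inv_inv] at h1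
  have h2 := conj_mem_UP hG (p := b p) (map_UP hb h1)
  have h3 : b p * b (p⁻¹ * t * p) * (b p)⁻¹ = b t := by
    rw [map_mul, map_mul, map_inv]; group
  rwa [h3] at h2

theorem map_rt (g : ↥(E Q)) {m₁ m₂ : V} (h1 : m₁ ∈ L0) (h2 : m₂ ∈ L0) (hg1 : (g : V ≃ₗ[R] V) m₁ = m₁)
    (hg2 : (g : V ≃ₗ[R] V) m₂ = m₂) {z : V} (hz : z ∈ L0) (hgz : (g : V ≃ₗ[R] V) z ∉ L0) :
    ∃ w, Q w = 0 ∧ polar Q (f 0) w = 0 ∧ b (rt m₁ m₂) = rt (f 0) w := by
  have hm1 : Q m₁ = 0 := TS_L0 _ h1
  have hm12 : polar Q m₁ m₂ = 0 := TS_L0.polar h1 h2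
  have ht : rt m₁ m₂ ∈ UP Q L0 := by
    rw [rt_eq hm1 hm12]
    exact ⟨_, sg_mem_U TS_L0 h1 (fun v hv => TS_L0.polar h2 hv) hm1 hm12, rfl⟩
  obtain ⟨w, hw, hbw⟩ := (mem_UP_span_iff hG.nondeg (Q_f 0) (f_ne 0)).1 (map_UP hb ht)
  have hpact : pact hG (g : PP) L0 = mapHom (g : V ≃ₗ[R] V) L0 := pact_mk hG g L0
  have hTS : TS Q (mapHom (g : V ≃ₗ[R] V) L0) := by
    rintro _ ⟨v, hv, rfl⟩
    exact (Q_apply g v).trans (TS_L0 v hv)
  have hm1' : m₁ ∈ mapHom (g : V ≃ₗ[R] V) L0 := ⟨m₁, h1, hg1⟩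
  have hm2' : m₂ ∈ mapHom (g : V ≃ₗ[R] V) L0 := ⟨m₂, h2, hg2⟩
  have ht' : rt m₁ m₂ ∈ UP Q (pact hG (g : PP) L0) := by
    rw [hpact, rt_eq hm1 hm12]
    exact ⟨_, sg_mem_U hTS hm1' (fun v hv => hTS.polar hm2' hv) hm1 hm12, rfl⟩
  have h3 := map_UP' hb (g : PP) ht'
  obtain ⟨h, hh⟩ := QuotientGroup.mk_surjective (b (g : PP))
  rw [← hh] at h3
  change b (rt m₁ m₂) ∈ UP Q (pact hG (h : PP) (Submodule.span R {f 0})) at h3
  rw [pact_mk, mapHom_span] at h3
  have hhf : Q ((h : V ≃ₗ[R] V) (f 0)) = 0 := (Q_apply h _).trans (Q_f 0)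
  have hhf0 : (h : V ≃ₗ[R] V) (f 0) ≠ 0 := fun h0 => f_ne 0 ((h : V ≃ₗ[R] V).map_eq_zero_iff.1 h0)
  obtain ⟨w', hw', hbw'⟩ := (mem_UP_span_iff hG.nondeg hhf hhf0).1 h3
  refine ⟨w, ?_, hw, hbw.trans (rt_eq (Q_f 0) hw).symm⟩
  refine Q_of_two (Q_f 0) (f_ne 0) hw hhf hw' ?_ ?_
  · intro k hk
    have h4 : (h : PP) ∈ stab hG (Submodule.span R {f 0}) := by
      apply mem_stab_of_map_le hG
      intro v hv
      obtain ⟨c, rfl⟩ := Submodule.mem_span_singleton.1 hv
      rw [map_smul, hk]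
      exact Submodule.smul_mem _ _ (Submodule.smul_mem _ _ (Submodule.mem_span_singleton_self _))
    rw [← hb] at h4
    obtain ⟨s, hs, hs'⟩ := h4
    have h5 : b s = b (g : PP) := hs'.trans hh
    have h6 : (g : PP) ∈ stab hG L0 := by
      rw [← b.injective h5]; exact hs
    exact hgz (apply_mem_of_mem_stab h6 hz)
  · rw [rt_eq (Q_f 0) hw, rt_eq hhf hw', ← hbw, ← hbw']

end

variable (C : Cert rho)

include C

theorem two_opp {b : MulAut PP} (hb : (stab hG L0).map b.toMonoidHom = stab hG (Submodule.span R {f 0})) : Gd b := by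
  by_contra hn
  -- the first root element
  have p00 : polar Q (e 0) (f 0) = 1 := by rw [polar_ef, if_pos rfl]
  have p10 : polar Q (e 1) (f 0) = 0 := by rw [polar_ef, if_neg (by decide)]
  have p01 : polar Q (f 0) (e 1) = 0 := by rw [polar_comm]; exact p10
  have p20 : polar Q (e 2) (f 0) = 0 := by rw [polar_ef, if_neg (by decide)]
  have ef : ∀ {i j : Fin 4}, i ≠ j → polar Q (e i) (f j) = 0 := fun {i j} h => by rw [polar_ef, if_neg h]
  have fe : ∀ {i j : Fin 4}, i ≠ j → polar Q (f i) (e j) = 0 := fun {i j} h => by rw [polar_fe, if_neg h]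
  have efi : ∀ (i : Fin 4), polar Q (e i) (f i) = 1 := fun i => by rw [polar_ef, if_pos rfl]
  have fei : ∀ (i : Fin 4), polar Q (f i) (e i) = 1 := fun i => by rw [polar_fe, if_pos rfl]
  -- a uniform statement
  have key : ∀ m : V, m ∈ L0 → polar Q m (f 0) = 1 → (∀ k : R, e 1 ≠ k • m) →
      (∃ g : ↥(E Q), (g : V ≃ₗ[R] V) m = m ∧ (g : V ≃ₗ[R] V) (e 1) = e 1 ∧ ∃ z ∈ L0, (g : V ≃ₗ[R] V) z ∉ L0) →
      ∃ a : R, a ≠ 0 ∧ b (rt m (e 1)) = rt (f 0) (a • e 1) := by
    rintro m hm hmf hm1 ⟨g, hgm, hg1, z, hz, hgz⟩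
    obtain ⟨w, hw, hfw, hbw⟩ := map_rt hb g hm (e_mem 1) hgm hg1 hz hgz
    have hQm := TS_L0 m hm
    have hm1' : polar Q m (e 1) = 0 := TS_L0.polar hm (e_mem 1)
    have hwk : ∀ k : R, w ≠ k • f 0 := by
      rintro k rfl
      have h2 : rt (f 0) (k • f 0) = 1 := by
        have h3 := rt_add (Q_f 0) (polar_zero_right _ (f 0)) k
        rw [zero_add, rt_zero (Q_f 0)] at h3
        exact h3
      rw [h2, map_eq_one_iff b b.injective] at hbw
      obtain ⟨k, hk⟩ := rt_eq_one hQm (by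
        rintro rfl
        rw [polar_zero_left] at hmf
        exact zero_ne_one hmf) hm1' hbw
      exact hm1 k hk
    rcases pair C (α := b) (u := m) (w := e 1) (u' := f 0) (w' := w) hQm (Q_e 1) hm1' (Q_f 0) hw hfw
      (by rw [hmf]; exact one_ne_zero) hm1 hwk hbw with h | ⟨a1, a2, a3, h⟩
    · exact absurd h hn
    · have h4 := congrArg (polar Q (f 0)) h
      have hfm : polar Q (f 0) m = 1 := by rw [polar_comm]; exact hmf
      rw [hfw, polar_add_right, polar_add_right, polar_smul_right, polar_smul_right, polar_smul_right, p01, hfm,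
        polar_ff] at h4
      simp only [smul_eq_mul, mul_one, mul_zero, zero_add, add_zero] at h4
      rw [← h4, zero_smul, add_zero] at h
      refine ⟨a1, ?_, ?_⟩
      · rintro rfl
        rw [zero_smul, zero_add] at h
        exact hwk _ h
      · rw [hbw, h]
        exact rt_add (Q_f 0) (by rw [polar_smul_right, p01, smul_zero]) a3
  have hne0 : ∀ k : R, e 1 ≠ k • e 0 := by
    intro k hk
    have := congrArg (polar Q (f 1)) hk
    rw [fei, polar_smul_right, fe (by decide), smul_zero] at this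
    exact one_ne_zero this
  have hne2 : ∀ k : R, e 1 ≠ k • (e 0 + e 2) := by
    intro k hk
    have := congrArg (polar Q (f 1)) hk
    rw [fei, polar_smul_right, polar_add_right, fe (by decide), fe (by decide), add_zero, smul_zero] at this
    exact one_ne_zero this
  obtain ⟨a1, ha1, h1⟩ := key (e 0) (e_mem 0) p00 hne0 (by
    refine ⟨sg (f 2) (f 3) (Q_f 2) (polar_ff 2 3), ?_, ?_, e 2, e_mem 2, ?_⟩
    · rw [sg_apply, fe (by decide), fe (by decide)]; simp
    · rw [sg_apply, fe (by decide), fe (by decide)]; simp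
    · rw [sg_apply, fei, fe (by decide)]
      intro h
      have := h 3
      simp [e, f] at this)
  have hQ20 : Q (f 2 - f 0) = 0 := by
    have : f 2 - f 0 = f 2 + (-1 : R) • f 0 := by module
    rw [this, Q_add, QuadraticMap.map_smul, Q_f, Q_f, polar_smul_right, polar_ff]; simp
  have hp203 : polar Q (f 2 - f 0) (f 3) = 0 := by rw [polar_sub_left, polar_ff, polar_ff, sub_zero]
  obtain ⟨a2, ha2, h2⟩ := key (e 0 + e 2) (L0.add_mem (e_mem 0) (e_mem 2)) (by
      rw [polar_add_left, p00, p20, add_zero]) hne2 (by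
    refine ⟨sg (f 2 - f 0) (f 3) hQ20 hp203, ?_, ?_, e 3, e_mem 3, ?_⟩
    · rw [sg_apply, polar_add_right, polar_sub_left, polar_sub_left, polar_add_right, fe (by decide), fei, fei,
        fe (by decide), fe (by decide), fe (by decide)]; simp
    · rw [sg_apply, polar_sub_left, fe (by decide), fe (by decide), fe (by decide)]; simp
    · rw [sg_apply, polar_sub_left, fei, fe (by decide), fe (by decide)]
      intro h
      have := h 2
      simp [e, f] at this)
  -- compare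
  have hQ02 : Q (e 0 + e 2) = 0 := TS_L0 _ (L0.add_mem (e_mem 0) (e_mem 2))
  have hp021 : polar Q (e 0 + e 2) (e 1) = 0 := TS_L0.polar (L0.add_mem (e_mem 0) (e_mem 2)) (e_mem 1)
  have hpk : ∀ k : R, polar Q (f 0) (k • e 1) = 0 := fun k => by rw [polar_smul_right, p01, smul_zero]
  have hk : ∃ k : R, k ≠ 0 ∧ rt (e 0) (e 1) = rt (e 0 + e 2) (k • e 1) := by
    by_cases h12 : a1 = a2
    · refine ⟨1, one_ne_zero, ?_⟩
      rw [one_smul]
      apply b.injective
      rw [h1, h2, h12]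
    · refine ⟨-1, neg_ne_zero.2 one_ne_zero, ?_⟩
      have h3 : a1 = -a2 := by
        rcases z3' ha1 with h | h <;> rcases z3' ha2 with h' | h' <;> subst h <;> subst h'
        · exact absurd rfl h12
        · decide
        · rfl
        · exact absurd rfl h12
      apply b.injective
      rw [neg_one_smul, rt_inv hQ02 hp021, map_inv, h1, h2, h3, neg_smul, rt_inv (Q_f 0) (hpk a2)]
  obtain ⟨k, hk0, hk⟩ := hk
  have h3 := rt_inj (Q_e 0) (polar_ee 0 1) hQ02 (by rw [polar_smul_right, hp021, smul_zero]) hk (f 1)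
  have h4 := congrArg (polar Q (f 2)) h3
  simp only [polar_sub_right, polar_smul_right, polar_smul_left, polar_add_right, polar_add_left, polar_ef, polar_fe,
    QuadraticMap.map_smul, Q_e] at h4
  simp only [show ¬ ((0 : Fin 4) = 1) by decide, show ¬ ((2 : Fin 4) = 1) by decide, show ¬ ((2 : Fin 4) = 0) by decide,
    if_false, if_true, smul_eq_mul, mul_zero, zero_mul, sub_zero, mul_one, zero_add, add_zero, zero_sub] at h4
  exact hk0 (neg_eq_zero.1 h4.symm)

end Cfsg.Agent.H62.Oe
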