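import Cfsg.Agent.H62.Oe.CaseTwoB
import Cfsg.Agent.H304.Spr.Trans
import Cfsg.Agent.H424.Spr.Core

/-!
# S3938, `PΩ⁺₈(3)` (helper62)
-/

set_option autoImplicit false
set_option linter.unusedSectionVars false
set_option linter.style.haveILetI false

namespace Cfsg.Agent.H62.Oe

open Module QuadraticMap Cfsg.Agent.LieClassical.OrthCore Cfsg.Agent.LieClassical.OrthTrans
  Cfsg.Agent.ClassicalGeometry.OrthAut1 Cfsg.Agent.ClassicalGeometry.OrthAut2
  Cfsg.Agent.LieClassical.QuadForms Cfsg.Agent.ClassicalGeometry.TrialityOct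
  Cfsg.Agent.ClassicalGeometry.Triality Cfsg.Agent.ClassicalGeometry.OrthSemi Cfsg.Agent.H198.TriAut
  Cfsg.Agent.H465.OEight

theorem gd_of_range (C : Cert rho) {α : MulAut PP} (h1 : α ≠ 1) (h : α ∈ (Psi Q).range) : Gd α := by
  rw [← range_psi (by rw [ZMod.card]; exact Nat.prime_three)] at h
  obtain ⟨b, rfl⟩ := h
  exact gd_psi C h1

/-- every non-trivial automorphism -/
theorem gd_all (C : Cert rho) {α : MulAut PP} (h1 : α ≠ 1) : Gd α := by
  haveI : Finite (MulAut PP) := Finite.of_injective (fun a : MulAut PP => (a : PP → PP)) DFunLike.coe_injective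
  have h2 : orderOf α ≠ 1 := fun h => h1 (orderOf_eq_one_iff.1 h)
  obtain ⟨p, hp, hd⟩ := Nat.exists_prime_and_dvd h2
  obtain ⟨β, hβ⟩ : ∃ β : MulAut PP, β = α ^ (orderOf α / p) := ⟨_, rfl⟩
  have h3 : orderOf β = p := by rw [hβ]; exact orderOf_pow_orderOf_div (orderOf_pos α).ne' hd
  suffices h : Gd β by
    rw [hβ] at h; exact h.of_pow
  have hβ1 : β ≠ 1 := by
    rintro rfl
    rw [orderOf_one] at h3
    exact hp.one_lt.ne h3
  by_cases hc : ∃ γ : MulAut PP, γ⁻¹ * β * γ ∈ (Psi Q).range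
  · obtain ⟨γ, hγ⟩ := hc
    refine Gd.of_conj γ (gd_of_range C ?_ hγ)
    intro h
    apply hβ1
    have h4 : β = γ * (γ⁻¹ * β * γ) * γ⁻¹ := by group
    rw [h4, h]; group
  push Not at hc
  have hp3 : p = 3 := by
    by_contra hp3
    haveI : Fact p.Prime := ⟨hp⟩
    have h4 : IsPGroup p (Subgroup.zpowers β) := IsPGroup.of_card (n := 1) (by rw [Nat.card_zpowers, h3, pow_one])
    have h5 : ¬ p ∣ Nat.card (MulAut PP ⧸ (Psi Q).range) := by
      rw [← Subgroup.index_eq_card, index_three]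
      intro h
      exact hp3 ((Nat.prime_dvd_prime_iff_eq hp Nat.prime_three).1 h)
    obtain ⟨q, hq⟩ := h4.nonempty_fixed_point_of_prime_not_dvd_card (MulAut PP ⧸ (Psi Q).range) h5
    obtain ⟨γ, rfl⟩ := QuotientGroup.mk_surjective q
    have h6 := hq ⟨β, Subgroup.mem_zpowers β⟩
    have h7 : ((β * γ : MulAut PP) : MulAut PP ⧸ (Psi Q).range) = (γ : MulAut PP ⧸ (Psi Q).range) := h6
    have h8 := QuotientGroup.eq.1 h7.symm
    rw [← mul_assoc] at h8
    exact hc γ h8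
  refine gd_two C ?_ hc
  have h9 := pow_orderOf_eq_one β
  rw [h3, hp3] at h9
  exact h9

section

variable (OT : OrdDiv.OrderTable.{0})
  (hS : ∀ (X : Type) [Group X] [Finite X] [IsSimpleGroup X], Cfsg.IsKnownSimple' X)

include OT hS

theorem cert : Cert rho := by
  refine ⟨?_, ?_, ?_⟩
  · obtain ⟨x, ⟨m, hm⟩, hx⟩ := H304.Spr.gen_opp OT hS
    refine ⟨x, ⟨m, ?_⟩, fun K h1 h2 => hx K h1 ?_⟩
    · show x ^ (m : ℤ) = _
      rw [zpow_natCast, hm, rt_eq (Q_e 0) (polar_ee 0 1)]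
      rfl
    · rw [rt_eq (Q_f 0) (polar_ff 0 1)] at h2
      exact h2
  · obtain ⟨x, ⟨m, hm⟩, hx⟩ := H304.Spr.gen_spe OT hS
    refine ⟨x, ⟨m, ?_⟩, fun K h1 h2 => hx K h1 ?_⟩
    · show x ^ (m : ℤ) = _
      rw [zpow_natCast, hm, rt_eq (Q_e 0) (polar_ee 0 1)]
      rfl
    · rw [rt_eq (Q_f 0) (by rw [polar_fe]; rfl)] at h2
      exact h2
  · exact H304.Spr.gen_refl OT hS rho (fun v => rfl)

theorem spr_p8 : H424.Spr.Spr PP := fun _ ha => gd_all (cert OT hS) ha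

/-- **`PΩ⁺₈(3)`** -/
theorem spr_o83 {F : Type} [Field F] [Fintype F] (hF : Fintype.card F = 3) :
    H424.Spr.Spr (POmega F (quadFormPlus 4 F)) := by
  obtain ⟨φ, -⟩ := H304.Spr.exists_phi
  obtain ⟨e⟩ := H503.El.equiv_o83 F hF
  exact ((spr_p8 OT hS).congr φ.symm).congr e

end

end Cfsg.Agent.H62.Oe
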