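import Cfsg.Agent.H62.Oe.Basic

/-!
# S3938, `Ω⁺₈(3)`: the pair lemma (helper62)
-/

set_option autoImplicit false
set_option linter.unusedSectionVars false
set_option linter.style.haveILetI false

namespace Cfsg.Agent.H62.Oe

open Module QuadraticMap Cfsg.Agent.LieClassical.OrthCore Cfsg.Agent.LieClassical.OrthTrans
  Cfsg.Agent.ClassicalGeometry.OrthAut1 Cfsg.Agent.ClassicalGeometry.OrthAut2
  Cfsg.Agent.LieClassical.QuadForms Cfsg.Agent.ClassicalGeometry.TrialityOct
  Cfsg.Agent.ClassicalGeometry.Triality Cfsg.Agent.ClassicalGeometry.OrthSemi Cfsg.Agent.H198.TriAut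
  Cfsg.Agent.H465.OEight

/-- the three generation certificates -/
structure Cert (ρ : SG R) : Prop where
  opp : ∃ x : PP, rt (e 0) (e 1) ∈ Subgroup.zpowers x ∧ ∀ K : Subgroup PP, x ∈ K → rt (f 0) (f 1) ∈ K → K = ⊤
  spe : ∃ x : PP, rt (e 0) (e 1) ∈ Subgroup.zpowers x ∧ ∀ K : Subgroup PP, x ∈ K → rt (f 0) (e 2) ∈ K → K = ⊤
  refl : ∃ x : PP, ∀ K : Subgroup PP, x ∈ K → psi ρ x ∈ K → K = ⊤

theorem polar_ee (i j : Fin 4) : polar Q (e i) (e j) = 0 := by
  rw [polar8]; simp [e]

theorem polar_ff (i j : Fin 4) : polar Q (f i) (f j) = 0 := by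
  rw [polar8]; simp [f]

theorem polar_ef (i j : Fin 4) : polar Q (e i) (f j) = if i = j then 1 else 0 := by
  rw [polar8]; fin_cases i <;> fin_cases j <;> simp [e, f]

theorem polar_fe (i j : Fin 4) : polar Q (f i) (e j) = if i = j then 1 else 0 := by
  rw [polar_comm, polar_ef]
  simp only [eq_comm]

theorem Q_e (i : Fin 4) : Q (e i) = 0 := by
  rw [norm8]; simp [e]

theorem Q_f (i : Fin 4) : Q (f i) = 0 := by
  rw [norm8]; simp [f]

theorem nondeg_bilin : (polarBilin Q).Nondegenerate := by
  refine ⟨fun x hx => polar_plusForm_nondeg 4 x fun v => ?_, fun x hx => polar_plusForm_nondeg 4 x fun v => ?_⟩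
  · exact hx v
  · rw [polar_comm]; exact hx v

/-- Witt's lemma -/
theorem witt {k : ℕ} {x y : Fin k → V} (hx : LinearIndependent R x) (hy : LinearIndependent R y)
    (hQ : ∀ i, Q (x i) = Q (y i)) (hB : ∀ i j, polar Q (x i) (x j) = polar Q (y i) (y j)) :
    ∃ g : SG R, (∀ v, Q (g.1 v) = Q v) ∧ ∀ i, g.1 (x i) = y i := by
  obtain ⟨g, hg, hxy⟩ := ClassicalGeometry.WittQuad.extend_family Q nondeg_bilin k x y hx hy hQ hB
  exact ⟨⟨g, ⟨1, one_ne_zero, fun v => by rw [one_mul]; exact hg v⟩⟩, hg, hxy⟩

theorem li_of {k : ℕ} {x : Fin k → V} (h : ∀ g : Fin k → R, ∑ i, g i • x i = 0 → ∀ i, g i = 0) :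
    LinearIndependent R x := Fintype.linearIndependent_iff.2 h

theorem Gd.of_psi {α : MulAut PP} (g : SG R) {x r : PP} (h1 : ∀ K : Subgroup PP, x ∈ K → r ∈ K → K = ⊤)
    {s : PP} (hs : s ∈ Subgroup.zpowers x) (h : psi g r ∈ Subgroup.zpowers (α (psi g s))) : Gd α := by
  refine ⟨psi g x, fun K hx hK => ?_⟩
  have h2 : psi g s ∈ K := by
    obtain ⟨n, rfl⟩ := hs
    simp only [map_zpow]
    exact K.zpow_mem hx n
  have h3 : psi g r ∈ K := (Subgroup.zpowers_le.2 (hK _ h2)) h
  have h4 := h1 (K.comap (psi g).toMonoidHom) hx h3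
  rw [eq_top_iff]
  intro y _
  have h5 : (psi g).symm y ∈ K.comap (psi g).toMonoidHom := by rw [h4]; trivial
  have h6 : psi g ((psi g).symm y) ∈ K := h5
  rwa [MulEquiv.apply_symm_apply] at h6

theorem rt_smul_mem {u w : V} (hu : Q u = 0) (hw : polar Q u w = 0) {d : R} (hd : d ≠ 0) :
    rt u (d • w) ∈ Subgroup.zpowers (rt u w) := by
  rcases z3' hd with rfl | rfl
  · rw [one_smul]; exact Subgroup.mem_zpowers _
  · rw [neg_one_smul, rt_inv hu hw]; exact inv_mem (Subgroup.mem_zpowers _)

variable {ρ : SG R} (C : Cert ρ)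

include C

/-- **the pair lemma**, normalised -/
theorem pair_norm {α : MulAut PP} {u u' r s : V} (hu : Q u = 0) (hu' : Q u' = 0) (huu : polar Q u u' = 1)
    (hr : Q r = 0) (hs : Q s = 0) (hur : polar Q u r = 0) (hu'r : polar Q u' r = 0) (hus : polar Q u s = 0)
    (hu's : polar Q u' s = 0) (hr0 : r ≠ 0) (hs0 : s ≠ 0)
    (h : rt u' s ∈ Subgroup.zpowers (α (rt u r))) : Gd α ∨ s = r ∨ s = -r := by
  have hu'u : polar Q u' u = 1 := by rw [polar_comm]; exact huu
  have huu0 := polar_self_of_sing hu
  have hu'u'0 := polar_self_of_sing hu'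
  have hrr := polar_self_of_sing hr
  have hss := polar_self_of_sing hs
  have hru : polar Q r u = 0 := by rw [polar_comm]; exact hur
  have hru' : polar Q r u' = 0 := by rw [polar_comm]; exact hu'r
  have hsu : polar Q s u = 0 := by rw [polar_comm]; exact hus
  have hsu' : polar Q s u' = 0 := by rw [polar_comm]; exact hu's
  by_cases hd : polar Q r s = 0
  · by_cases hli : ∃ c : R, s = c • r
    · obtain ⟨c, rfl⟩ := hli
      right
      have hc : c ≠ 0 := by rintro rfl; exact hs0 (zero_smul _ _)
      rcases z3' hc with rfl | rfl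
      · left; exact one_smul _ _
      · right; exact neg_one_smul _ _
    left
    obtain ⟨x, hx, hK⟩ := C.spe
    have hsr : polar Q s r = 0 := by rw [polar_comm]; exact hd
    obtain ⟨g, hg, hxy⟩ := witt (x := ![e 0, e 1, f 0, e 2]) (y := ![u, r, u', s]) (li_of fun g hg => by
        simp only [Fin.sum_univ_four, Matrix.cons_val] at hg
        have h0 := congrFun hg (.inl 0)
        have h1 := congrFun hg (.inl 1)
        have h2 := congrFun hg (.inr 0)
        have h3 := congrFun hg (.inl 2)
        simp [e, f] at h0 h1 h2 h3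
        intro i
        fin_cases i <;> assumption) (li_of fun g hg => by
        simp only [Fin.sum_univ_four, Matrix.cons_val] at hg
        have h0 := congrArg (polar Q u') hg
        have h2 := congrArg (polar Q u) hg
        simp only [polar_add_right, polar_smul_right, polar_zero_right, hu'u, hu'r, hu'u'0, hu's, huu, huu0, hur, hus,
          smul_eq_mul, mul_zero, mul_one, add_zero, zero_add] at h0 h2
        rw [h0, h2, zero_smul, zero_smul, zero_add, add_zero] at hg
        have h3 : g 3 = 0 := by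
          by_contra h3
          apply hli
          refine ⟨-((g 3)⁻¹ * g 1), ?_⟩
          have h4 : g 3 • s = -(g 1 • r) := by rw [eq_neg_iff_add_eq_zero, add_comm]; exact hg
          have h5 := congrArg (fun v => (g 3)⁻¹ • v) h4
          simp only [smul_smul, inv_mul_cancel₀ h3, one_smul, smul_neg] at h5
          rw [h5, neg_smul]
        rw [h3, zero_smul, add_zero] at hg
        have h1 : g 1 = 0 := (smul_eq_zero.1 hg).resolve_right hr0
        intro i
        fin_cases i <;> assumption) (by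
        intro i
        fin_cases i <;> simp only [Matrix.cons_val, Fin.zero_eta, Fin.mk_one, Fin.reduceFinMk, Fin.isValue, Q_e, Q_f,
          hu, hu', hr, hs]) (by
        intro i j
        fin_cases i <;> fin_cases j <;> simp only [Matrix.cons_val, Fin.zero_eta, Fin.mk_one, Fin.reduceFinMk,
          Fin.isValue, polar_ee, polar_ff, polar_ef, polar_fe, huu0, huu, hur, hus, hu'u'0, hu'u, hu'r, hu's, hrr, hss,
          hru, hru', hsu, hsu', hd, hsr] <;> rfl)
    have h0 : g.1 (e 0) = u := hxy 0
    have h1 : g.1 (e 1) = r := hxy 1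
    have h2 : g.1 (f 0) = u' := hxy 2
    have h3 : g.1 (e 2) = s := hxy 3
    refine Gd.of_psi g hK hx ?_
    rw [psi_rt_one g hg (Q_e 0) (polar_ee 0 1), psi_rt_one g hg (Q_f 0) (by rw [polar_fe]; rfl), h0, h1, h2, h3]
    exact h
  · left
    obtain ⟨x, hx, hK⟩ := C.opp
    set d := polar Q r s with hd'
    have hsr : polar Q s r = d := by rw [polar_comm]
    have hdd : d⁻¹ * d = 1 := inv_mul_cancel₀ hd
    obtain ⟨g, hg, hxy⟩ := witt (x := ![e 0, e 1, f 0, f 1]) (y := ![u, r, u', d⁻¹ • s]) (li_of fun g hg => by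
        simp only [Fin.sum_univ_four, Matrix.cons_val] at hg
        have h0 := congrFun hg (.inl 0)
        have h1 := congrFun hg (.inl 1)
        have h2 := congrFun hg (.inr 0)
        have h3 := congrFun hg (.inr 1)
        simp [e, f] at h0 h1 h2 h3
        intro i
        fin_cases i <;> assumption) (li_of fun g hg => by
        simp only [Fin.sum_univ_four, Matrix.cons_val] at hg
        have h0 := congrArg (polar Q u') hg
        have h2 := congrArg (polar Q u) hg
        have h1 := congrArg (polar Q s) hg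
        have h3 := congrArg (polar Q r) hg
        simp only [polar_add_right, polar_smul_right, polar_zero_right, hu'u, hu'r, hu'u'0, hu's, huu, huu0, hur, hus,
          hsu, hsu', hru, hru', hrr, hss, hsr, ← hd', hdd,
          smul_eq_mul, mul_zero, mul_one, add_zero, zero_add] at h0 h1 h2 h3
        have h1' : g 1 = 0 := (mul_eq_zero.1 h1).resolve_right hd
        intro i
        fin_cases i <;> assumption) (by
        intro i
        fin_cases i <;> simp only [Matrix.cons_val, Fin.zero_eta, Fin.mk_one, Fin.reduceFinMk, Fin.isValue, Q_e, Q_f,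
          hu, hu', hr, hs, QuadraticMap.map_smul, smul_zero]) (by
        intro i j
        fin_cases i <;> fin_cases j <;> simp only [Matrix.cons_val, Fin.zero_eta, Fin.mk_one, Fin.reduceFinMk,
          Fin.isValue, polar_ee, polar_ff, polar_ef, polar_fe, polar_smul_left, polar_smul_right, huu0, huu, hur, hus,
          hu'u'0, hu'u, hu'r, hu's, hrr, hss,
          hru, hru', hsu, hsu', ← hd', hsr, smul_eq_mul, mul_zero, hdd] <;> rfl)
    have h0 : g.1 (e 0) = u := hxy 0
    have h1 : g.1 (e 1) = r := hxy 1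
    have h2 : g.1 (f 0) = u' := hxy 2
    have h3 : g.1 (f 1) = d⁻¹ • s := hxy 3
    refine Gd.of_psi g hK hx ?_
    rw [psi_rt_one g hg (Q_e 0) (polar_ee 0 1), psi_rt_one g hg (Q_f 0) (polar_ff 0 1), h0, h1, h2, h3]
    exact (Subgroup.zpowers_le.2 h) (rt_smul_mem hu' hu's (inv_ne_zero hd))

/-- **the pair lemma** -/
theorem pair {α : MulAut PP} {u w u' w' : V} (hu : Q u = 0) (hw : Q w = 0) (huw : polar Q u w = 0)
    (hu' : Q u' = 0) (hw' : Q w' = 0) (huw' : polar Q u' w' = 0) (ha : polar Q u u' ≠ 0)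
    (hwu : ∀ c : R, w ≠ c • u) (hwu' : ∀ c : R, w' ≠ c • u') (h : α (rt u w) = rt u' w') :
    Gd α ∨ ∃ a b c : R, w' = a • w + b • u + c • u' := by
  set a := polar Q u u' with ha'
  set b := polar Q w u' with hb'
  set c := polar Q u w' with hc'
  have haa : a⁻¹ * a = 1 := inv_mul_cancel₀ ha
  have haa' : a * a⁻¹ = 1 := mul_inv_cancel₀ ha
  have huu0 := polar_self_of_sing hu
  have hu'u'0 := polar_self_of_sing hu'
  have hu'u : polar Q u' u = a := by rw [polar_comm]
  have hwu1 : polar Q w u = 0 := by rw [polar_comm]; exact huw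
  have hwu1' : polar Q w' u' = 0 := by rw [polar_comm]; exact huw'
  have hu'w : polar Q u' w = b := by rw [polar_comm]
  -- normalise
  have key := pair_norm C (α := α) (u := u) (u' := a⁻¹ • u') (r := w + (-(a⁻¹ * b)) • u)
    (s := a • w' + (-(c)) • u') hu
    (by rw [QuadraticMap.map_smul, hu', smul_zero])
    (by rw [polar_smul_right, ← ha', smul_eq_mul, haa])
    (by rw [Q_add, QuadraticMap.map_smul, hw, hu, polar_smul_right, hwu1, smul_zero, smul_zero]; simp)
    (by rw [Q_add, QuadraticMap.map_smul, QuadraticMap.map_smul, hw', hu', polar_smul_left, polar_smul_right, hwu1']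
        simp)
    (by rw [polar_add_right, polar_smul_right, huw, huu0]; simp)
    (by rw [polar_smul_left, polar_add_right, polar_smul_right, hu'w, hu'u, smul_eq_mul, smul_eq_mul]
        linear_combination -(a⁻¹ * b) * haa)
    (by rw [polar_add_right, polar_smul_right, polar_smul_right, ← hc', ← ha', smul_eq_mul, smul_eq_mul]; ring)
    (by rw [polar_smul_left, polar_add_right, polar_smul_right, polar_smul_right, huw', hu'u'0]; simp)
    (by
      intro h0
      apply hwu (a⁻¹ * b)
      rw [neg_smul, ← sub_eq_add_neg, sub_eq_zero] at h0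
      exact h0)
    (by
      intro h0
      apply hwu' (a⁻¹ * c)
      have h1 := congrArg (fun v => a⁻¹ • v) h0
      simp only [smul_add, smul_smul, haa, one_smul, smul_zero] at h1
      rw [mul_neg, neg_smul, ← sub_eq_add_neg, sub_eq_zero] at h1
      exact h1)
    (by
      have h1 : rt u (w + (-(a⁻¹ * b)) • u) = rt u w := rt_add hu huw _
      have h2 := rt_alt hu' hw' huw' (a⁻¹) 0 (-c) a
      rw [zero_smul, add_zero, zero_mul, sub_zero, haa, one_smul, add_comm ((-c) • u')] at h2
      rw [h1, h, h2]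
      exact Subgroup.mem_zpowers _)
  rcases key with h1 | h1 | h1
  · exact Or.inl h1
  · right
    refine ⟨a⁻¹, a⁻¹ * (-(a⁻¹ * b)), a⁻¹ * c, ?_⟩
    have h2 := congrArg (fun v => a⁻¹ • v) h1
    simp only [smul_add, smul_smul, haa, one_smul] at h2
    have h3 : w' = (w' + (a⁻¹ * -c) • u') + (a⁻¹ * c) • u' := by module
    rw [h3, h2]
  · right
    refine ⟨-a⁻¹, a⁻¹ * (a⁻¹ * b), a⁻¹ * c, ?_⟩
    have h2 := congrArg (fun v => a⁻¹ • v) h1
    simp only [smul_add, smul_neg, smul_smul, haa, one_smul] at h2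
    have h3 : w' = (w' + (a⁻¹ * -c) • u') + (a⁻¹ * c) • u' := by module
    rw [h3, h2]
    module

end Cfsg.Agent.H62.Oe
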